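import Cfsg.Agent.LyG2x94.LA.Check0

/-!
# Certificate data
-/

set_option autoImplicit false
set_option maxRecDepth 100000

namespace Cfsg.Agent.LyG2x94.LA

open Cfsg.Agent.CosetEnum Cfsg.Agent.J4Rep94

theorem dok0 : allRange sys.checkDef 0 960 = true := by decide +kernel

def fchunks : List (ℕ × ℕ) := [(128, fv0), (128, fv1), (128, fv2), (128, fv3), (128, fv4), (89, fv5)]

theorem defsOK : sys.DefsOK 0 [960] := ⟨dok0, trivial⟩

theorem factsOK : sys.FactsOK 960 fchunks := ⟨fok0, fok1, fok2, fok3, fok4, fok5, trivial⟩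

theorem rules_ok : sys.rules.all (fun R => R.check sys rels subs) = true := by decide +kernel

def mchunks : List (ℕ × ℕ) := [(24, mv0), (24, mv1), (24, mv2), (24, mv3), (24, mv4), (24, mv5), (24, mv6), (24, mv7), (24, mv8), (24, mv9), (24, mv10), (24, mv11), (24, mv12), (24, mv13), (24, mv14), (24, mv15), (24, mv16), (24, mv17), (24, mv18), (24, mv19)]

theorem mainOK : MainOK sys 1689 reps 480 gens 0 mchunks := ⟨mok0, mok1, mok2, mok3, mok4, mok5, mok6, mok7, mok8, mok9, mok10, mok11, mok12, mok13, mok14, mok15, mok16, mok17, mok18, mok19, trivial⟩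

theorem result_index {G : Type} [Group G] (val : ℕ → G) (h9 : val 9 = 1)
    (hrels : ∀ W ∈ rels, evalWord val W = 1) :
    (wspan val subs).relIndex (wspan val gens) ≠ 0 ∧ (wspan val subs).relIndex (wspan val gens) ≤ 480 :=
  relIndex_le_of_cert (letters_of (S := sys) rfl (by decide +kernel) h9 hrels) hrels subs rules_ok [960] fchunks mchunks defsOK (by decide)
    factsOK (hfs := (by decide +kernel : 960 + (fchunks.map Prod.fst).sum = 1689)) gens mainOK (by decide +kernel) (by decide) (by decide +kernel)

end Cfsg.Agent.LyG2x94.LA
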